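import Cfsg.Agent.H196.SRX.Defs

/-!
# TEAM SR (S4971): the data of the isolated elements of order 3 and 4 (helper196)

`ell_G2_3`, `ell_F4_3` (`A2 × A2`), `ell_F4_4` (`A3 × A1`), `ell_E7_3` (`A2 × A5`), `ell_E7_4` (`A3 × A3 × A1`, not
connected), `ell_E8_3` (`A8`), `ell_E8_4` (`A7 × A1`), and `cent_..`.
-/

set_option autoImplicit false
set_option maxRecDepth 100000

namespace Cfsg.Agent.H196.SRX

open Cfsg Cfsg.Lie Cfsg.Agent.Nodes.RGDChev Cfsg.Agent.ChevalleyStructure.CoxeterGeomTypes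

theorem isType_G2 : IsType chevG2 2 CoxeterMatrix.G₂ := by simp [IsType, typeList]

theorem isType_F4 : IsType chevF4 4 CoxeterMatrix.F₄ := by simp [IsType, typeList]

theorem isType_E7 : IsType chevE7 7 CoxeterMatrix.E₇ := by simp [IsType, typeList]

theorem isType_E8 : IsType chevE8 8 CoxeterMatrix.E₈ := by simp [IsType, typeList]

/-- the functional of the isolated element of order 3 of G2 -/
def f_G2_3 : Fin 2 → ℤ := ![1, 0]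

/-- the base -/
def P_G2_3 : Fin 2 → Fin 2 → ℤ :=
  ![![3, 1], ![0, 1]]

/-- the dual matrix -/
def U_G2_3 : Fin 2 → Fin 2 → ℤ :=
  ![![1, 0], ![-1, 3]]

/-- the coefficients -/
def m_G2_3 : Fin 2 → ℤ := ![1, 2]

theorem ell_G2_3 : Ell isType_G2 3 f_G2_3 P_G2_3 U_G2_3 m_G2_3 f_G2_3 :=
  Ell.of_chk (ri := ![10, 6]) isType_G2 (by decide +kernel)

theorem cent_G2_3 : Cent isType_G2 3 f_G2_3 P_G2_3 :=
  Cent.of_chk isType_G2 ell_G2_3 (by norm_num) (N := 0)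
    (S := ![![2, -3], ![-3, 6]])
    (B := ![![6, -3], ![-3, 6]])
    (c := ![![1, 2]]) (by decide +kernel)

/-- the functional of the isolated element of order 3 of F4 -/
def f_F4_3 : Fin 4 → ℤ := ![0, 0, 1, 0]

/-- the base -/
def P_F4_3 : Fin 4 → Fin 4 → ℤ :=
  ![![1, 0, 0, 0], ![0, 1, 0, 0], ![2, 4, 3, 1], ![0, 0, 0, 1]]

/-- the dual matrix -/
def U_F4_3 : Fin 4 → Fin 4 → ℤ :=
  ![![3, 0, -2, 0], ![0, 3, -4, 0], ![0, 0, 1, 0], ![0, 0, -1, 3]]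

/-- the coefficients -/
def m_F4_3 : Fin 4 → ℤ := ![1, 2, 1, 2]

theorem ell_F4_3 : Ell isType_F4 3 f_F4_3 P_F4_3 U_F4_3 m_F4_3 f_F4_3 :=
  Ell.of_chk (ri := ![33, 27, 46, 24]) isType_F4 (by decide +kernel)

theorem cent_F4_3 : Cent isType_F4 3 f_F4_3 P_F4_3 :=
  Cent.of_chk isType_F4 ell_F4_3 (by norm_num) (N := 1)
    (S := ![![2, -1, 0, 0], ![-1, 2, -2, 0], ![0, -2, 4, -2], ![0, 0, -2, 4]])
    (B := ![![2, -1, 0, 0], ![-1, 2, 0, 0], ![0, 0, 4, -2], ![0, 0, -2, 4]])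
    (c := ![![1, 2, 1, 2], ![1007, 7, 1005, 14]]) (by decide +kernel)

/-- the functional of the isolated element of order 4 of F4 -/
def f_F4_4 : Fin 4 → ℤ := ![0, 1, 0, 0]

/-- the base -/
def P_F4_4 : Fin 4 → Fin 4 → ℤ :=
  ![![1, 0, 0, 0], ![2, 4, 2, 1], ![0, 0, 1, 0], ![0, 0, 0, 1]]

/-- the dual matrix -/
def U_F4_4 : Fin 4 → Fin 4 → ℤ :=
  ![![4, -2, 0, 0], ![0, 1, 0, 0], ![0, -2, 4, 0], ![0, -1, 0, 4]]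

/-- the coefficients -/
def m_F4_4 : Fin 4 → ℤ := ![2, 1, 2, 3]

theorem ell_F4_4 : Ell isType_F4 4 f_F4_4 P_F4_4 U_F4_4 m_F4_4 f_F4_4 :=
  Ell.of_chk (ri := ![33, 45, 25, 24]) isType_F4 (by decide +kernel)

theorem cent_F4_4 : Cent isType_F4 4 f_F4_4 P_F4_4 :=
  Cent.of_chk isType_F4 ell_F4_4 (by norm_num) (N := 1)
    (S := ![![2, -1, 0, 0], ![-1, 2, -2, 0], ![0, -2, 4, -2], ![0, 0, -2, 4]])
    (B := ![![2, 0, 0, 0], ![0, 4, -2, 0], ![0, -2, 4, -2], ![0, 0, -2, 4]])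
    (c := ![![2, 1, 2, 3], ![8, 1005, 1005, 28]]) (by decide +kernel)

/-- the functional of the isolated element of order 3 of E7 -/
def f_E7_3 : Fin 7 → ℤ := ![0, 0, 1, 0, 0, 0, 0]

/-- the base -/
def P_E7_3 : Fin 7 → Fin 7 → ℤ :=
  ![![1, 0, 0, 0, 0, 0, 0], ![0, 1, 0, 0, 0, 0, 0], ![1, 2, 3, 4, 3, 2, 1], ![0, 0, 0, 1, 0, 0, 0], ![0, 0, 0, 0,
      1, 0, 0], ![0, 0, 0, 0, 0, 1, 0], ![0, 0, 0, 0, 0, 0, 1]]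

/-- the dual matrix -/
def U_E7_3 : Fin 7 → Fin 7 → ℤ :=
  ![![3, 0, -1, 0, 0, 0, 0], ![0, 3, -2, 0, 0, 0, 0], ![0, 0, 1, 0, 0, 0, 0], ![0, 0, -4, 3, 0, 0, 0], ![0, 0, -3,
      0, 3, 0, 0], ![0, 0, -2, 0, 0, 3, 0], ![0, 0, -1, 0, 0, 0, 3]]

/-- the coefficients -/
def m_E7_3 : Fin 7 → ℤ := ![2, 1, 1, 2, 0, 1, 2]

theorem ell_E7_3 : Ell isType_E7 3 f_E7_3 P_E7_3 U_E7_3 m_E7_3 f_E7_3 :=
  Ell.of_chk (ri := ![93, 78, 124, 69, 66, 64, 63]) isType_E7 (by decide +kernel)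

theorem cent_E7_3 : Cent isType_E7 3 f_E7_3 P_E7_3 :=
  Cent.of_chk isType_E7 ell_E7_3 (by norm_num) (N := 3)
    (S := ![![2, 0, -1, 0, 0, 0, 0], ![0, 2, 0, -1, 0, 0, 0], ![-1, 0, 2, -1, 0, 0, 0], ![0, -1, -1, 2, -1, 0, 0],
      ![0, 0, 0, -1, 2, -1, 0], ![0, 0, 0, 0, -1, 2, -1], ![0, 0, 0, 0, 0, -1, 2]])
    (B := ![![2, 0, -1, 0, 0, 0, 0], ![0, 2, 0, -1, 0, 0, 0], ![-1, 0, 2, 0, 0, 0, 0], ![0, -1, 0, 2, -1, 0, 0],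
      ![0, 0, 0, -1, 2, -1, 0], ![0, 0, 0, 0, -1, 2, -1], ![0, 0, 0, 0, 0, -1, 2]])
    (c := ![![2, 1, 1, 2, 0, 1, 2], ![7, 1007, 1007, 7, 1004, 1007, 7], ![94, 968, 968, 69, 1006, 943, 94], ![856,
      619, 580, 769, 991, 876, 199]]) (by decide +kernel)

/-- the functional of the isolated element of order 4 of E7 -/
def f_E7_4 : Fin 7 → ℤ := ![0, 0, 0, 1, 0, 0, 0]

/-- the base -/
def P_E7_4 : Fin 7 → Fin 7 → ℤ :=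
  ![![1, 0, 0, 0, 0, 0, 0], ![0, 1, 0, 0, 0, 0, 0], ![0, 0, 1, 0, 0, 0, 0], ![1, 2, 2, 4, 3, 2, 1], ![0, 0, 0, 0,
      1, 0, 0], ![0, 0, 0, 0, 0, 1, 0], ![0, 0, 0, 0, 0, 0, 1]]

/-- the dual matrix -/
def U_E7_4 : Fin 7 → Fin 7 → ℤ :=
  ![![4, 0, 0, -1, 0, 0, 0], ![0, 4, 0, -2, 0, 0, 0], ![0, 0, 4, -2, 0, 0, 0], ![0, 0, 0, 1, 0, 0, 0], ![0, 0, 0,
      -3, 4, 0, 0], ![0, 0, 0, -2, 0, 4, 0], ![0, 0, 0, -1, 0, 0, 4]]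

/-- the coefficients -/
def m_E7_4 : Fin 7 → ℤ := ![3, 2, 2, 1, 1, 2, 3]

theorem ell_E7_4 : Ell isType_E7 4 f_E7_4 P_E7_4 U_E7_4 m_E7_4 f_E7_4 :=
  Ell.of_chk (ri := ![93, 78, 73, 123, 66, 64, 63]) isType_E7 (by decide +kernel)

/-- the functional of the isolated element of order 3 of E8 -/
def f_E8_3 : Fin 8 → ℤ := ![0, 1, 0, 0, 0, 0, 0, 0]

/-- the base -/
def P_E8_3 : Fin 8 → Fin 8 → ℤ :=
  ![![1, 0, 0, 0, 0, 0, 0, 0], ![1, 3, 3, 5, 4, 3, 2, 1], ![0, 0, 1, 0, 0, 0, 0, 0], ![0, 0, 0, 1, 0, 0, 0, 0],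
      ![0, 0, 0, 0, 1, 0, 0, 0], ![0, 0, 0, 0, 0, 1, 0, 0], ![0, 0, 0, 0, 0, 0, 1, 0], ![0, 0, 0, 0, 0, 0, 0, 1]]

/-- the dual matrix -/
def U_E8_3 : Fin 8 → Fin 8 → ℤ :=
  ![![3, -1, 0, 0, 0, 0, 0, 0], ![0, 1, 0, 0, 0, 0, 0, 0], ![0, -3, 3, 0, 0, 0, 0, 0], ![0, -5, 0, 3, 0, 0, 0, 0],
      ![0, -4, 0, 0, 3, 0, 0, 0], ![0, -3, 0, 0, 0, 3, 0, 0], ![0, -2, 0, 0, 0, 0, 3, 0], ![0, -1, 0, 0, 0, 0, 0, 3]]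

/-- the coefficients -/
def m_E8_3 : Fin 8 → ℤ := ![2, 1, 0, 1, 2, 0, 1, 2]

theorem ell_E8_3 : Ell isType_E8 3 f_E8_3 P_E8_3 U_E8_3 m_E8_3 f_E8_3 :=
  Ell.of_chk (ri := ![162, 225, 135, 130, 126, 123, 121, 120]) isType_E8 (by decide +kernel)

theorem cent_E8_3 : Cent isType_E8 3 f_E8_3 P_E8_3 :=
  Cent.of_chk isType_E8 ell_E8_3 (by norm_num) (N := 4)
    (S := ![![2, 0, -1, 0, 0, 0, 0, 0], ![0, 2, 0, -1, 0, 0, 0, 0], ![-1, 0, 2, -1, 0, 0, 0, 0], ![0, -1, -1, 2,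
      -1, 0, 0, 0], ![0, 0, 0, -1, 2, -1, 0, 0], ![0, 0, 0, 0, -1, 2, -1, 0], ![0, 0, 0, 0, 0, -1, 2, -1], ![0, 0,
      0, 0, 0, 0, -1, 2]])
    (B := ![![2, -1, -1, 0, 0, 0, 0, 0], ![-1, 2, 0, 0, 0, 0, 0, 0], ![-1, 0, 2, -1, 0, 0, 0, 0], ![0, 0, -1, 2,
      -1, 0, 0, 0], ![0, 0, 0, -1, 2, -1, 0, 0], ![0, 0, 0, 0, -1, 2, -1, 0], ![0, 0, 0, 0, 0, -1, 2, -1], ![0, 0,
      0, 0, 0, 0, -1, 2]])
    (c := ![![2, 1, 0, 1, 2, 0, 1, 2], ![7, 1007, 1004, 1007, 7, 1004, 1007, 7], ![69, 968, 1006, 943, 69, 1006,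
      943, 94], ![769, 619, 991, 915, 112, 991, 876, 199], ![109, 404, 806, 768, 793, 685, 498,
      973]]) (by decide +kernel)

/-- the functional of the isolated element of order 4 of E8 -/
def f_E8_4 : Fin 8 → ℤ := ![0, 0, 1, 0, 0, 0, 0, 0]

/-- the base -/
def P_E8_4 : Fin 8 → Fin 8 → ℤ :=
  ![![1, 0, 0, 0, 0, 0, 0, 0], ![0, 1, 0, 0, 0, 0, 0, 0], ![2, 2, 4, 5, 4, 3, 2, 1], ![0, 0, 0, 1, 0, 0, 0, 0],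
      ![0, 0, 0, 0, 1, 0, 0, 0], ![0, 0, 0, 0, 0, 1, 0, 0], ![0, 0, 0, 0, 0, 0, 1, 0], ![0, 0, 0, 0, 0, 0, 0, 1]]

/-- the dual matrix -/
def U_E8_4 : Fin 8 → Fin 8 → ℤ :=
  ![![4, 0, -2, 0, 0, 0, 0, 0], ![0, 4, -2, 0, 0, 0, 0, 0], ![0, 0, 1, 0, 0, 0, 0, 0], ![0, 0, -5, 4, 0, 0, 0, 0],
      ![0, 0, -4, 0, 4, 0, 0, 0], ![0, 0, -3, 0, 0, 4, 0, 0], ![0, 0, -2, 0, 0, 0, 4, 0], ![0, 0, -1, 0, 0, 0, 0, 4]]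

/-- the coefficients -/
def m_E8_4 : Fin 8 → ℤ := ![2, 2, 1, 3, 0, 1, 2, 3]

theorem ell_E8_4 : Ell isType_E8 4 f_E8_4 P_E8_4 U_E8_4 m_E8_4 f_E8_4 :=
  Ell.of_chk (ri := ![162, 141, 232, 130, 126, 123, 121, 120]) isType_E8 (by decide +kernel)

theorem cent_E8_4 : Cent isType_E8 4 f_E8_4 P_E8_4 :=
  Cent.of_chk isType_E8 ell_E8_4 (by norm_num) (N := 3)
    (S := ![![2, 0, -1, 0, 0, 0, 0, 0], ![0, 2, 0, -1, 0, 0, 0, 0], ![-1, 0, 2, -1, 0, 0, 0, 0], ![0, -1, -1, 2,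
      -1, 0, 0, 0], ![0, 0, 0, -1, 2, -1, 0, 0], ![0, 0, 0, 0, -1, 2, -1, 0], ![0, 0, 0, 0, 0, -1, 2, -1], ![0, 0,
      0, 0, 0, 0, -1, 2]])
    (B := ![![2, 0, 0, 0, 0, 0, 0, 0], ![0, 2, -1, -1, 0, 0, 0, 0], ![0, -1, 2, 0, 0, 0, 0, 0], ![0, -1, 0, 2, -1,
      0, 0, 0], ![0, 0, 0, -1, 2, -1, 0, 0], ![0, 0, 0, 0, -1, 2, -1, 0], ![0, 0, 0, 0, 0, -1, 2, -1], ![0, 0, 0,
      0, 0, 0, -1, 2]])
    (c := ![![2, 2, 1, 3, 0, 1, 2, 3], ![8, 1007, 1007, 14, 999, 1007, 1007, 14], ![128, 817, 4, 288, 0, 913, 817,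
      388], ![480, 858, 501, 881, 668, 739, 742, 875]]) (by decide +kernel)

end Cfsg.Agent.H196.SRX
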