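import Cfsg.Agent.H129.TorusUntw

/-!
# TEAM SR (S4971), exceptional groups: the combinatorial data of an isolated element (helper196)

`hp : IsType D l M`, lattice `ℤ^l` of the roots. `Ell hp ℓ f P U m lam`:

* `f` : a functional (coefficient vector); `Ψ = {roots a : ℓ ∣ f a}` is the root system of the centraliser of the torus
  element `s` with `a(s) = ζ ^ f a`, `ζ` of order `ℓ`;
* `P` : the simple system of `Ψ⁺` (full rank), `U` the dual matrix: `ℓ x = ∑ U_i(x) P_i`;
* `m`, `lam` : `U_i ≡ m_i f mod ℓ`, `f lam = 1`.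

`Cent hp ℓ f P` : an element of `W` preserving `f mod ℓ` and `{P i}` is trivial (connected centraliser).

* `Ell.of_chk`, `Cent.of_chk` : both follow from a finite check (`by decide +kernel`).
-/

set_option autoImplicit false
set_option linter.unusedSectionVars false

namespace Cfsg.Agent.H196.SRX

open CoxeterSystem Cfsg Cfsg.Lie Cfsg.Lie.ChevalleyDatum
open Cfsg.Agent.ChevalleyStructure Cfsg.Agent.ChevalleyStructure.Elts Cfsg.Agent.ChevalleyStructure.CoxeterGeom
  Cfsg.Agent.ChevalleyStructure.CoxeterGeomTypes Cfsg.Agent.ChevalleyStructure.NPerm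
open Cfsg.Agent.Tits.Roots Cfsg.Agent.Tits.Core Cfsg.Agent.Nodes Cfsg.Agent.Nodes.Reps Cfsg.Agent.Nodes.BNOf
  Cfsg.Agent.Nodes.RGDChev Cfsg.Agent.Nodes.Bruhat
open Cfsg.Agent.KFacts.RgdField Cfsg.Agent.KFacts.RgdChevCoord Cfsg.Agent.H129.TorusChar

/-- the functional with coefficient vector `v` -/
def fn {l : ℕ} (v x : Fin l → ℤ) : ℤ := ∑ j, v j * x j

theorem fn_add {l : ℕ} (v x y : Fin l → ℤ) : fn v (x + y) = fn v x + fn v y := by
  unfold fn
  rw [← Finset.sum_add_distrib]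
  exact Finset.sum_congr rfl fun j _ => by rw [Pi.add_apply, mul_add]

theorem fn_smul {l : ℕ} (v : Fin l → ℤ) (c : ℤ) (x : Fin l → ℤ) : fn v (c • x) = c * fn v x := by
  unfold fn
  rw [Finset.mul_sum]
  exact Finset.sum_congr rfl fun j _ => by rw [Pi.smul_apply, smul_eq_mul]; ring

/-- `fn` as an additive homomorphism -/
def fnH {l : ℕ} (v : Fin l → ℤ) : (Fin l → ℤ) →+ ℤ where
  toFun := fn v
  map_zero' := by
    show ∑ j, v j * (0 : Fin l → ℤ) j = 0
    simp
  map_add' := fn_add v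

@[simp] theorem fnH_apply {l : ℕ} (v x : Fin l → ℤ) : fnH v x = fn v x := rfl

theorem fn_sum {l : ℕ} {ι : Type*} (s : Finset ι) (v : Fin l → ℤ) (x : ι → Fin l → ℤ) :
    fn v (∑ i ∈ s, x i) = ∑ i ∈ s, fn v (x i) := map_sum (fnH v) x s

theorem fn_neg {l : ℕ} (v x : Fin l → ℤ) : fn v (-x) = -fn v x := map_neg (fnH v) x

theorem fn_sub {l : ℕ} (v x y : Fin l → ℤ) : fn v (x - y) = fn v x - fn v y := map_sub (fnH v) x y

theorem fn_zero {l : ℕ} (v : Fin l → ℤ) : fn v 0 = 0 := map_zero (fnH v)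

theorem fn_sr {l : ℕ} (v : Fin l → ℤ) (j : Fin l) : fn v (sr j) = v j := by
  unfold fn
  rw [Finset.sum_eq_single j]
  · rw [sr_self, mul_one]
  · intro i _ hi
    rw [sr_ne hi, mul_zero]
  · intro hj
    exact absurd (Finset.mem_univ j) hj

section

variable {D : ChevalleyDatum} {l : ℕ} {M : CoxeterMatrix (Fin l)} (hp : IsType D l M)

/-- The data of an isolated element of order `ℓ`. -/
structure Ell (hp : IsType D l M) (ℓ : ℕ) (f : Fin l → ℤ) (P U : Fin l → Fin l → ℤ) (m lam : Fin l → ℤ) : Prop where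
  root : ∀ i, IsRoot M.toCoxeterSystem hp.isCartan (P i)
  pos : ∀ i, 0 ≤ P i
  fP : ∀ i, (ℓ : ℤ) ∣ fn f (P i)
  expand : ∀ x : Fin l → ℤ, (ℓ : ℤ) • x = ∑ i, fn (U i) x • P i
  dual : ∀ i j, fn (U i) (P j) = if i = j then (ℓ : ℤ) else 0
  nonneg : ∀ a, IsRoot M.toCoxeterSystem hp.isCartan a → 0 ≤ a → (ℓ : ℤ) ∣ fn f a → ∀ i, 0 ≤ fn (U i) a
  cong : ∀ i x, (ℓ : ℤ) ∣ fn (U i) x - m i * fn f x
  lam : fn f lam = 1

/-- Connectedness of the centraliser. -/
def Cent (hp : IsType D l M) (ℓ : ℕ) (f : Fin l → ℤ) (P : Fin l → Fin l → ℤ) : Prop :=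
  ∀ w : M.Group, (∀ x, (ℓ : ℤ) ∣ fn f (rep M.toCoxeterSystem hp.isCartan w x) - fn f x) →
    (∀ i, ∃ j, rep M.toCoxeterSystem hp.isCartan w (P i) = P j) → w = 1

/-- The finite check for `Ell`. `ri i` is the index of the root `P i`. -/
def chk (D : ChevalleyDatum) (l ℓ : ℕ) (f : Fin l → ℤ) (P U : Fin l → Fin l → ℤ) (m lam : Fin l → ℤ)
    (ri : Fin l → ℕ) : Prop :=
  (∀ i, ri i < D.nroots ∧ ∀ j, vec D l (ri i) j = P i j) ∧
  (∀ i j, 0 ≤ P i j) ∧
  (∀ i, (ℓ : ℤ) ∣ fn f (P i)) ∧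
  (∀ j k, ∑ i, U i j * P i k = if j = k then (ℓ : ℤ) else 0) ∧
  (∀ i j, fn (U i) (P j) = if i = j then (ℓ : ℤ) else 0) ∧
  (∀ r : Fin D.nroots, (∀ j, 0 ≤ vec D l r j) → (ℓ : ℤ) ∣ fn f (vec D l r) → ∀ i, 0 ≤ fn (U i) (vec D l r)) ∧
  (∀ i j, (ℓ : ℤ) ∣ U i j - m i * f j) ∧
  fn f lam = 1

instance decChk (D : ChevalleyDatum) (l ℓ : ℕ) (f : Fin l → ℤ) (P U : Fin l → Fin l → ℤ) (m lam : Fin l → ℤ)
    (ri : Fin l → ℕ) : Decidable (chk D l ℓ f P U m lam ri) := by
  unfold chk; infer_instance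

theorem Ell.of_chk {ℓ : ℕ} {f : Fin l → ℤ} {P U : Fin l → Fin l → ℤ} {m lam : Fin l → ℤ} {ri : Fin l → ℕ}
    (h : chk D l ℓ f P U m lam ri) : Ell hp ℓ f P U m lam := by
  obtain ⟨h1, h2, h3, h4, h5, h6, h7, h8⟩ := h
  have hroot : ∀ i, vec D l (ri i) = P i := fun i => funext (h1 i).2
  refine ⟨fun i => ?_, fun i j => h2 i j, h3, fun x => ?_, h5, ?_, fun i x => ?_, h8⟩
  · rw [← hroot i]
    exact isRoot_vec hp _ (h1 i).1
  · funext k
    rw [Finset.sum_apply]
    simp only [Pi.smul_apply, smul_eq_mul]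
    unfold fn
    simp only [Finset.sum_mul]
    rw [Finset.sum_comm]
    have h9 : ∀ j, ∑ i, U i j * x j * P i k = x j * (if j = k then (ℓ : ℤ) else 0) := by
      intro j
      rw [← h4 j k, Finset.mul_sum]
      exact Finset.sum_congr rfl fun i _ => by ring
    simp only [h9]
    rw [Finset.sum_eq_single k]
    · rw [if_pos rfl, mul_comm]
    · intro j _ hj
      rw [if_neg hj, mul_zero]
    · intro hk
      exact absurd (Finset.mem_univ k) hk
  · intro a ha h0 hf i
    obtain ⟨r, hr, rfl⟩ := (isRoot_iff hp M.toCoxeterSystem a).1 ha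
    exact h6 ⟨r, hr⟩ (fun j => h0 j) hf i
  · have h9 : fn (U i) x - m i * fn f x = ∑ j, (U i j - m i * f j) * x j := by
      unfold fn
      rw [Finset.mul_sum, ← Finset.sum_sub_distrib]
      exact Finset.sum_congr rfl fun j _ => by ring
    rw [h9]
    exact Finset.dvd_sum fun j _ => Dvd.dvd.mul_right (h7 i j) _

/-! ### the invariant form -/

/-- the bilinear form with matrix `S` -/
def sf {l : ℕ} (S : Fin l → Fin l → ℤ) (x y : Fin l → ℤ) : ℤ := ∑ i, ∑ j, S i j * x i * y j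

theorem sf_simple {S : Fin l → Fin l → ℤ} (hs : ∀ i j, S i j = S j i)
    (hS : ∀ i j, 2 * S i j = S i i * cartanOf D l i j) (i : Fin l) (x y : Fin l → ℤ) :
    sf S (rep M.toCoxeterSystem hp.isCartan (M.toCoxeterSystem.simple i) x)
      (rep M.toCoxeterSystem hp.isCartan (M.toCoxeterSystem.simple i) y) = sf S x y := by
  have hadd1 : ∀ x x' y, sf S (x + x') y = sf S x y + sf S x' y := fun x x' y => by
    unfold sf
    simp only [Pi.add_apply, ← Finset.sum_add_distrib]
    exact Finset.sum_congr rfl fun i _ => Finset.sum_congr rfl fun j _ => by ring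
  have hadd2 : ∀ x y y', sf S x (y + y') = sf S x y + sf S x y' := fun x y y' => by
    unfold sf
    simp only [Pi.add_apply, ← Finset.sum_add_distrib]
    exact Finset.sum_congr rfl fun i _ => Finset.sum_congr rfl fun j _ => by ring
  have hsm1 : ∀ (c : ℤ) x y, sf S (c • x) y = c * sf S x y := fun c x y => by
    unfold sf
    simp only [Pi.smul_apply, smul_eq_mul, Finset.mul_sum]
    exact Finset.sum_congr rfl fun i _ => Finset.sum_congr rfl fun j _ => by ring
  have hsm2 : ∀ (c : ℤ) x y, sf S x (c • y) = c * sf S x y := fun c x y => by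
    unfold sf
    simp only [Pi.smul_apply, smul_eq_mul, Finset.mul_sum]
    exact Finset.sum_congr rfl fun i _ => Finset.sum_congr rfl fun j _ => by ring
  have hsymm : ∀ x y, sf S x y = sf S y x := fun x y => by
    unfold sf
    rw [Finset.sum_comm]
    exact Finset.sum_congr rfl fun i _ => Finset.sum_congr rfl fun j _ => by rw [hs j i]; ring
  have hsr : ∀ (y : Fin l → ℤ), 2 * sf S (sr i) y = S i i * pairing (cartanOf D l) i y := fun y => by
    unfold sf pairing
    rw [Finset.sum_eq_single i]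
    · rw [Finset.mul_sum, Finset.mul_sum]
      refine Finset.sum_congr rfl fun j _ => ?_
      rw [sr_self, mul_one, ← mul_assoc, hS i j]
      ring
    · intro j _ hj
      exact Finset.sum_eq_zero fun k _ => by rw [sr_ne hj]; ring
    · intro hi
      exact absurd (Finset.mem_univ i) hi
  have hii : sf S (sr i) (sr i) = S i i := by
    unfold sf
    rw [Finset.sum_eq_single i]
    · rw [Finset.sum_eq_single i]
      · rw [sr_self, mul_one, mul_one]
      · intro j _ hj
        rw [sr_ne hj]; ring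
      · intro hi
        exact absurd (Finset.mem_univ i) hi
    · intro j _ hj
      exact Finset.sum_eq_zero fun k _ => by rw [sr_ne hj]; ring
    · intro hi
      exact absurd (Finset.mem_univ i) hi
  rw [rep_simple_eq, rep_simple_eq]
  set a := pairing (cartanOf D l) i x
  set b := pairing (cartanOf D l) i y
  have e1 : x - a • sr i = x + (-a) • (sr i : Fin l → ℤ) := by rw [neg_smul, sub_eq_add_neg]
  have e2 : y - b • sr i = y + (-b) • (sr i : Fin l → ℤ) := by rw [neg_smul, sub_eq_add_neg]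
  rw [e1, e2, hadd1, hadd2, hadd2, hsm1, hsm2, hsm1, hsm2, hii, hsymm x (sr i)]
  have h1 := hsr x
  have h2 := hsr y
  have h3 : 2 * (sf S x y + -b * sf S (sr i) x + (-a * sf S (sr i) y + -a * (-b * S i i))) = 2 * sf S x y := by
    linear_combination (-b) * h1 - a * h2
  linarith

theorem sf_rep {S : Fin l → Fin l → ℤ} (hs : ∀ i j, S i j = S j i)
    (hS : ∀ i j, 2 * S i j = S i i * cartanOf D l i j) (w : M.Group) (x y : Fin l → ℤ) :
    sf S (rep M.toCoxeterSystem hp.isCartan w x) (rep M.toCoxeterSystem hp.isCartan w y) = sf S x y := by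
  obtain ⟨ω, rfl⟩ := M.toCoxeterSystem.wordProd_surjective w
  induction ω with
  | nil => rw [wordProd_nil, map_one, Module.End.one_apply, Module.End.one_apply]
  | cons i ω ih => rw [wordProd_cons, rep_mul_apply, rep_mul_apply, sf_simple hp hs hS, ih]

/-- The finite check for `Cent`: `B` the Gram matrix of the base, `c` a sequence of colourings of the nodes. -/
def chkC (D : ChevalleyDatum) (l ℓ : ℕ) (S P B : Fin l → Fin l → ℤ) (m : Fin l → ℤ) (N : ℕ)
    (c : Fin (N + 1) → Fin l → ℤ) : Prop :=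
  (∀ i j, S i j = S j i) ∧ (∀ i j, 2 * S i j = S i i * cartanOf D l i j) ∧
  (∀ i j, B i j = sf S (P i) (P j)) ∧
  (∀ i, c 0 i = m i % (ℓ : ℤ)) ∧
  (∀ n : Fin N, ∀ i, c n.succ i = (∑ j, B i j * (c n.castSucc j * c n.castSucc j)) % 1009) ∧
  (∀ i j, (∀ n, c n i = c n j) → i = j)

instance decChkC (D : ChevalleyDatum) (l ℓ : ℕ) (S P B : Fin l → Fin l → ℤ) (m : Fin l → ℤ) (N : ℕ)
    (c : Fin (N + 1) → Fin l → ℤ) : Decidable (chkC D l ℓ S P B m N c) := by
  unfold chkC; infer_instance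

theorem Ell.rep_U {ℓ : ℕ} {f : Fin l → ℤ} {P U : Fin l → Fin l → ℤ} {m lam : Fin l → ℤ}
    (E : Ell hp ℓ f P U m lam) {w : M.Group} (π : Equiv.Perm (Fin l))
    (hπ : ∀ i, rep M.toCoxeterSystem hp.isCartan w (P i) = P (π i)) (hℓ : ℓ ≠ 0) (i : Fin l) (x : Fin l → ℤ) :
    fn (U (π i)) (rep M.toCoxeterSystem hp.isCartan w x) = fn (U i) x := by
  have h1 := congrArg (rep M.toCoxeterSystem hp.isCartan w) (E.expand x)
  rw [map_smul, map_sum] at h1
  have h2 := congrArg (fn (U (π i))) h1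
  rw [fn_smul, fn_sum, Finset.sum_eq_single i] at h2
  · rw [map_smul, hπ, fn_smul, E.dual, if_pos rfl, mul_comm] at h2
    exact mul_right_cancel₀ (by exact_mod_cast hℓ) h2
  · intro j _ hj
    rw [map_smul, hπ, fn_smul, E.dual, if_neg (fun h => hj (π.injective h.symm)), mul_zero]
  · intro hi
    exact absurd (Finset.mem_univ i) hi

/-- the permutation induced on the base -/
theorem Ell.exists_perm {ℓ : ℕ} {f : Fin l → ℤ} {P U : Fin l → Fin l → ℤ} {m lam : Fin l → ℤ}
    (E : Ell hp ℓ f P U m lam) (hℓ : ℓ ≠ 0) {w : M.Group}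
    (hw : ∀ i, ∃ j, rep M.toCoxeterSystem hp.isCartan w (P i) = P j) :
    ∃ π : Equiv.Perm (Fin l), ∀ i, rep M.toCoxeterSystem hp.isCartan w (P i) = P (π i) := by
  choose g hg using hw
  have hinj : Function.Injective g := by
    intro i j hij
    have h1 : rep M.toCoxeterSystem hp.isCartan w (P i) = rep M.toCoxeterSystem hp.isCartan w (P j) := by
      rw [hg, hg, hij]
    have h2 := rep_injective_apply M.toCoxeterSystem hp.isCartan w h1
    by_contra hne
    have h3 := E.dual i j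
    rw [if_neg hne, ← h2, E.dual, if_pos rfl] at h3
    exact hℓ (by exact_mod_cast h3)
  exact ⟨Equiv.ofBijective g (Finite.injective_iff_bijective.1 hinj), hg⟩

theorem Cent.of_chk {ℓ : ℕ} {f : Fin l → ℤ} {P U : Fin l → Fin l → ℤ} {m lam : Fin l → ℤ}
    (E : Ell hp ℓ f P U m lam) (hℓ : ℓ ≠ 0) {S B : Fin l → Fin l → ℤ} {N : ℕ} {c : Fin (N + 1) → Fin l → ℤ}
    (h : chkC D l ℓ S P B m N c) : Cent hp ℓ f P := by
  obtain ⟨hs, hS, hB, h0, hsucc, hcol⟩ := h
  intro w hf hw
  obtain ⟨π, hπ⟩ := E.exists_perm hp hℓ hw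
  have hℓ' : (ℓ : ℤ) ≠ 0 := by exact_mod_cast hℓ
  have hm : ∀ i, m (π i) % (ℓ : ℤ) = m i % (ℓ : ℤ) := by
    intro i
    have h1 := E.cong (π i) (rep M.toCoxeterSystem hp.isCartan w lam)
    have h2 := E.cong i lam
    have h3 := hf lam
    rw [E.rep_U hp π hπ hℓ] at h1
    rw [E.lam] at h2 h3
    rw [mul_one] at h2
    refine (Int.emod_eq_emod_iff_emod_sub_eq_zero).2 (Int.emod_eq_zero_of_dvd ?_)
    have h4 : m (π i) - m i = (fn (U i) lam - m i) -
        (fn (U i) lam - m (π i) * fn f (rep M.toCoxeterSystem hp.isCartan w lam)) -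
        m (π i) * (fn f (rep M.toCoxeterSystem hp.isCartan w lam) - 1) := by ring
    rw [h4]
    exact dvd_sub (dvd_sub h2 h1) (Dvd.dvd.mul_left h3 _)
  have hc : ∀ n i, c n (π i) = c n i := by
    intro n
    induction n using Fin.induction with
    | zero =>
      intro i
      rw [h0, h0, hm]
    | succ n ih =>
      intro i
      rw [hsucc, hsucc]
      congr 1
      rw [← Equiv.sum_comp π]
      refine Finset.sum_congr rfl fun j _ => ?_
      rw [ih, hB, hB, ← hπ, ← hπ, sf_rep hp hs hS]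
  have hπ1 : ∀ i, π i = i := fun i => hcol _ _ fun n => hc n i
  apply rep_injective M.toCoxeterSystem hp.isCartan
  apply LinearMap.ext
  intro x
  rw [map_one, Module.End.one_apply]
  have h1 := congrArg (rep M.toCoxeterSystem hp.isCartan w) (E.expand x)
  rw [map_smul, map_sum] at h1
  have h2 : ∑ i, rep M.toCoxeterSystem hp.isCartan w (fn (U i) x • P i) = (ℓ : ℤ) • x := by
    rw [E.expand x]
    refine Finset.sum_congr rfl fun i _ => ?_
    rw [map_smul, hπ, hπ1]
  rw [h2] at h1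
  exact smul_right_injective _ hℓ' h1

end

end Cfsg.Agent.H196.SRX
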