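import Cfsg.Agent.H196.SRX.Rows
import Cfsg.Agent.H374.SR.Lang

/-!
# TEAM SR (S4971): non-real elements in `G2(q)`, `F4(q)`, `E7(q)`, `E8(q)` (helper196, from helper374's theorem)

* `nrel_g2` (`3 ∤ q`), `nrel_f4`, `nrel_e8` (all `q`), `nrel_e7` (`3 ∤ q`).
-/

set_option autoImplicit false

namespace Cfsg.Agent.H196.SRX

open CoxeterSystem Cfsg Cfsg.Lie Cfsg.Agent.Nodes.RGDChev Cfsg.Agent.ChevalleyStructure
  Cfsg.Agent.ChevalleyStructure.CoxeterGeom Cfsg.Agent.ChevalleyStructure.CoxeterGeomTypes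
  Cfsg.Agent.Tits.Roots Cfsg.Agent.Tits.Core Cfsg.Agent.H374.SR Cfsg.Agent.H721.SR Cfsg.Agent.H129.TorusChar

universe u

/-- the general theorem for `q ≡ ±1` modulo `m`, if `-1` is in the Weyl group -/
theorem nrel_pm {D : ChevalleyDatum} {l : ℕ} {M : CoxeterMatrix (Fin l)} (hp : IsType D l M) {F : Type u} [Field F]
    [Finite F] {d : ℕ} {B : Fin l → Fin l → ℤ} (hB : InvC D l d B) (hd : d ≠ 0) {m : ℕ} {j : Fin l}
    {β : Fin l → ℤ} (Dt : Dat M.toCoxeterSystem hp.isCartan j m β)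
    (hstab : ∀ v : M.Group, (∀ x, (m : ℤ) ∣ rep M.toCoxeterSystem hp.isCartan v x j - x j) →
      (∀ b ∈ Pi j β, rep M.toCoxeterSystem hp.isCartan v b ∈ Pi j β) → v = 1)
    (hw : ∃ w, (∀ x, (m : ℤ) ∣ rep M.toCoxeterSystem hp.isCartan w x j + x j) ∧
      ∀ b ∈ Pi j β, rep M.toCoxeterSystem hp.isCartan w b ∈ Pi j β)
    (hm : m.Coprime (Nat.card F)) (hF : Nat.card F % m = 1 ∨ Nat.card F % m = m - 1)
    (hdF : (∀ a : F, ∃ b : F, b ^ d = a) ∨ d.Coprime (m * Nat.card F)) : NRel ↥(D.group F) := by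
  have hm0 : 2 < m := Dt.m2
  rcases hF with hF | hF
  · refine nrel hp hB hd Dt hstab 1 (fun x => ?_) (fun b hb => ?_) hm hdF
    · rw [map_one, Module.End.one_apply]
      have h0 : Nat.card F = m * (Nat.card F / m) + 1 := by
        conv_lhs => rw [← Nat.div_add_mod (Nat.card F) m, hF]
      have h1 : (m : ℤ) ∣ (Nat.card F : ℤ) - 1 := ⟨((Nat.card F / m : ℕ) : ℤ), by
        have h2 := congrArg (fun z : ℕ => (z : ℤ)) h0
        simp only [Nat.cast_add, Nat.cast_mul, Nat.cast_one] at h2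
        linarith⟩
      have h2 : x j - (Nat.card F : ℤ) * x j = -(((Nat.card F : ℤ) - 1) * x j) := by ring
      rw [h2]
      exact (Dvd.dvd.mul_right h1 _).neg_right
    · rw [map_one, Module.End.one_apply]
      exact hb
  · obtain ⟨w, hw, hwP⟩ := hw
    refine nrel hp hB hd Dt hstab w (fun x => ?_) hwP hm hdF
    have h0 : Nat.card F + 1 = m * (Nat.card F / m) + m := by
      have h3 := Nat.div_add_mod (Nat.card F) m
      rw [hF] at h3
      omega
    have h1 : (m : ℤ) ∣ (Nat.card F : ℤ) + 1 := ⟨((Nat.card F / m : ℕ) : ℤ) + 1, by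
      have h2 := congrArg (fun z : ℕ => (z : ℤ)) h0
      simp only [Nat.cast_add, Nat.cast_mul, Nat.cast_one] at h2
      linarith⟩
    have h2 : rep M.toCoxeterSystem hp.isCartan w x j - (Nat.card F : ℤ) * x j =
        (rep M.toCoxeterSystem hp.isCartan w x j + x j) - ((Nat.card F : ℤ) + 1) * x j := by ring
    rw [h2]
    exact dvd_sub (hw x) (Dvd.dvd.mul_right h1 _)

theorem mod_three {q : ℕ} (h : ¬ 3 ∣ q) : q % 3 = 1 ∨ q % 3 = 3 - 1 := by omega

theorem coprime_three {q : ℕ} (h : ¬ 3 ∣ q) : Nat.Coprime 3 q := (Nat.Prime.coprime_iff_not_dvd Nat.prime_three).2 h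

/-- a finite field whose order is divisible by 3 has odd order -/
theorem card_mod_four {F : Type u} [Field F] [Finite F] (h : 3 ∣ Nat.card F) :
    Nat.card F % 4 = 1 ∨ Nat.card F % 4 = 4 - 1 := by
  have := Fintype.ofFinite F
  obtain ⟨p, hpc⟩ := CharP.exists F
  have hp : Fact p.Prime := ⟨CharP.char_is_prime F p⟩
  obtain ⟨n, -, h2⟩ := FiniteField.card F p
  rw [← Nat.card_eq_fintype_card] at h2
  have h3 : p = 3 := by
    rw [h2] at h
    exact ((Nat.prime_dvd_prime_iff_eq Nat.prime_three hp.out).1 (Nat.prime_three.dvd_of_dvd_pow h)).symm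
  have h4 : Odd (Nat.card F) := by
    rw [h2, h3]
    exact Odd.pow (by decide)
  obtain ⟨k, hk⟩ := h4
  omega

theorem coprime_four {q : ℕ} (h : q % 4 = 1 ∨ q % 4 = 4 - 1) : Nat.Coprime 4 q := by
  have h1 : Nat.Coprime 2 q := by
    rw [Nat.Prime.coprime_iff_not_dvd Nat.prime_two]
    omega
  exact Nat.Coprime.pow_left 2 h1

theorem nrel_g2 {F : Type u} [Field F] [Finite F] (h3 : ¬ 3 ∣ Nat.card F) : NRel ↥(chevG2.group F) :=
  nrel_pm isType_G2 invC_G2 one_ne_zero dat_G2_3 hstab_G2_3 w_G2_3 (coprime_three h3) (mod_three h3)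
    (Or.inr (Nat.coprime_one_left _))

theorem nrel_f4 {F : Type u} [Field F] [Finite F] : NRel ↥(chevF4.group F) := by
  by_cases h3 : 3 ∣ Nat.card F
  · exact nrel_pm isType_F4 invC_F4 one_ne_zero dat_F4_4 hstab_F4_4 w_F4_4 (coprime_four (card_mod_four h3))
      (card_mod_four h3) (Or.inr (Nat.coprime_one_left _))
  · exact nrel_pm isType_F4 invC_F4 one_ne_zero dat_F4_3 hstab_F4_3 w_F4_3 (coprime_three h3) (mod_three h3)
      (Or.inr (Nat.coprime_one_left _))

theorem nrel_e8 {F : Type u} [Field F] [Finite F] : NRel ↥(chevE8.group F) := by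
  by_cases h3 : 3 ∣ Nat.card F
  · exact nrel_pm isType_E8 invC_E8 one_ne_zero dat_E8_4 hstab_E8_4 w_E8_4 (coprime_four (card_mod_four h3))
      (card_mod_four h3) (Or.inr (Nat.coprime_one_left _))
  · exact nrel_pm isType_E8 invC_E8 one_ne_zero dat_E8_3 hstab_E8_3 w_E8_3 (coprime_three h3) (mod_three h3)
      (Or.inr (Nat.coprime_one_left _))

theorem nrel_e7 {F : Type u} [Field F] [Finite F] (h3 : ¬ 3 ∣ Nat.card F) : NRel ↥(chevE7.group F) := by
  refine nrel_pm isType_E7 invC_E7 two_ne_zero dat_E7_3 hstab_E7_3 w_E7_3 (coprime_three h3) (mod_three h3) ?_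
  have := Fintype.ofFinite F
  obtain ⟨p, hpc⟩ := CharP.exists F
  have hp : Fact p.Prime := ⟨CharP.char_is_prime F p⟩
  obtain ⟨n, -, h2⟩ := FiniteField.card F p
  rw [← Nat.card_eq_fintype_card] at h2
  by_cases hp2 : p = 2
  · left
    subst hp2
    intro a
    obtain ⟨b, hb⟩ := Finite.injective_iff_surjective.1 (frobenius_inj F 2) a
    exact ⟨b, by rw [← hb, frobenius_def]⟩
  · right
    have h4 : Odd (Nat.card F) := by
      rw [h2]
      exact (hp.out.odd_of_ne_two hp2).pow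
    have h5 : Odd (3 * Nat.card F) := (by decide : Odd 3).mul h4
    exact (Nat.coprime_two_left).2 h5

end Cfsg.Agent.H196.SRX
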