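import Cfsg.Agent.H196.SRX.Data
import Cfsg.Agent.H374.SR.Comb
import Cfsg.Agent.H720.RowsNeg

/-!
# TEAM SR (S4971): the data in the form of helper374's theorem, and the element `w₀ w_Ψ` (helper196)
-/

set_option autoImplicit false
set_option maxRecDepth 100000
set_option linter.unusedSectionVars false

namespace Cfsg.Agent.H196.SRX

open CoxeterSystem Cfsg Cfsg.Lie Cfsg.Agent.Nodes.RGDChev Cfsg.Agent.ChevalleyStructure
  Cfsg.Agent.ChevalleyStructure.CoxeterGeom Cfsg.Agent.ChevalleyStructure.CoxeterGeomTypes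
  Cfsg.Agent.Tits.Roots Cfsg.Agent.Tits.Core Cfsg.Agent.Nodes.Reps Cfsg.Agent.Nodes.BNOf Cfsg.Agent.H374.SR
  Cfsg.Agent.Nodes.Coroot Cfsg.Agent.KFacts.RgdField Cfsg.Agent.Tits.RootComb

section

variable {I W : Type*} [Fintype I] [DecidableEq I] [Group W] {M : CoxeterMatrix I}
  {cs : CoxeterSystem M W} {A : I → I → ℤ} {h : IsCartan M A} {j : I} {m : ℕ} {β : I → ℤ}

/-- an element of `W` multiplying the `j`-coordinate by `q` modulo `m` and positive on the simple roots permutes them -/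
theorem map_Pi' (D : Dat cs h j m β) [Finite W] {v : W} {q : ℤ} (hv : ∀ x, (m : ℤ) ∣ rep cs h v x j - q * x j)
    (hpos : ∀ b ∈ Pi j β, 0 ≤ rep cs h v b) : ∀ b ∈ Pi j β, rep cs h v b ∈ Pi j β := by
  have hP : ∀ a ∈ PP cs h j m, rep cs h v a ∈ PP cs h j m := fun a ha => D.map_PP hv hpos ha
  have hf : ∀ a ∈ PP cs h j m, fj j β m a ≤ fj j β m (rep cs h v a) := fun a ha =>
    D.le_map (f := fj j β m) (g := (fj j β m).comp (rep cs h v).toAddMonoidHom)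
      (fun b hb => by
        rw [D.fj_Pi hb]
        exact (D.fj_le (hP b (D.mem_PP hb))).1) ha
  have hit : ∀ (n : ℕ) (a : I → ℤ), a ∈ PP cs h j m → rep cs h (v ^ n) a ∈ PP cs h j m ∧
      fj j β m a ≤ fj j β m (rep cs h (v ^ n) a) := by
    intro n
    induction n with
    | zero => intro a ha; rw [pow_zero, map_one, Module.End.one_apply]; exact ⟨ha, le_rfl⟩
    | succ n ih =>
      intro a ha
      obtain ⟨h1, h2⟩ := ih a ha
      rw [pow_succ', rep_mul_apply]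
      exact ⟨hP _ h1, h2.trans (hf _ h1)⟩
  intro b hb
  have hbP := D.mem_PP hb
  refine (D.fj_le (hP b hbP)).2 (le_antisymm ?_ (D.fj_le (hP b hbP)).1)
  have h1 : 0 < orderOf v := orderOf_pos v
  have h2 := (hit (orderOf v - 1) (rep cs h v b) (hP b hbP)).2
  rw [← rep_mul_apply, ← pow_succ, Nat.sub_add_cancel h1, pow_orderOf_eq_one, map_one, Module.End.one_apply,
    D.fj_Pi hb] at h2
  exact h2

/-- **The element `w₀ w_Ψ`.** -/
theorem exists_w (D : Dat cs h j m β) [Finite W] {w₀ : W} (hneg : ∀ x, rep cs h w₀ x = -x) :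
    ∃ w : W, (∀ x, (m : ℤ) ∣ rep cs h w x j + x j) ∧ ∀ b ∈ Pi j β, rep cs h w b ∈ Pi j β := by
  let V : Subgroup W :=
    { carrier := {v | ∀ x, (m : ℤ) ∣ rep cs h v x j - x j}
      one_mem' := fun x => by
        rw [map_one, Module.End.one_apply, sub_self]
        exact dvd_zero _
      mul_mem' := by
        intro v v' hv hv' x
        rw [rep_mul_apply]
        have h1 := dvd_add (hv (rep cs h v' x)) (hv' x)
        rwa [sub_add_sub_cancel] at h1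
      inv_mem' := by
        intro v hv x
        have h1 := hv (rep cs h v⁻¹ x)
        rw [rep_apply_inv] at h1
        rwa [← dvd_neg, neg_sub] }
  obtain ⟨v, hv, hpos⟩ := Cfsg.Agent.BpExc.Fr.exists_adjust (cs := cs) (h := h)
    {a | IsRoot cs h a ∧ (m : ℤ) ∣ a j} V (by
      rintro a ⟨⟨w, i, rfl⟩, ha⟩
      refine ⟨w, i, rfl, fun x => ?_⟩
      rw [rep_rfl'_eq, Pi.sub_apply, Pi.smul_apply, smul_eq_mul, sub_sub_cancel_left]
      exact (Dvd.dvd.mul_left ha _).neg_right) (Cfsg.Agent.BpExc.Fr.repAut cs h w₀)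
    (fun a ha => ha.act w₀)
  have hw : ∀ x, (m : ℤ) ∣ rep cs h (w₀ * v) x j + x j := by
    intro x
    rw [rep_mul_apply, hneg, Pi.neg_apply]
    have h1 := (hv x).neg_right
    rw [neg_sub] at h1
    rwa [neg_add_eq_sub]
  refine ⟨w₀ * v, hw, map_Pi' D (q := -1) (fun x => ?_) fun b hb => ?_⟩
  · rw [neg_one_mul, sub_neg_eq_add]
    exact hw x
  · obtain ⟨h1, h2, h3⟩ := D.mem_PP hb
    rw [rep_mul_apply]
    exact hpos b ⟨h1, h3⟩ h2

end

section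

variable {D : ChevalleyDatum} {l : ℕ} {M : CoxeterMatrix (Fin l)} (hp : IsType D l M)

/-- the finite check for `Dat` -/
def chkD (D : ChevalleyDatum) (l m : ℕ) (j : Fin l) (β : Fin l → ℤ) (r : ℕ) : Prop :=
  2 < m ∧ r < D.nroots ∧ (∀ i, vec D l r i = β i) ∧ (∀ i, 0 ≤ β i) ∧ β j = m ∧
  ∀ r' : Fin D.nroots, (∀ i, 0 ≤ vec D l r' i) → (m : ℤ) ∣ vec D l r' j → ∀ i, i ≠ j →
    vec D l r' j * β i ≤ m * vec D l r' i

instance decChkD (D : ChevalleyDatum) (l m : ℕ) (j : Fin l) (β : Fin l → ℤ) (r : ℕ) :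
    Decidable (chkD D l m j β r) := by
  unfold chkD; infer_instance

theorem dat_of_chk {m : ℕ} {j : Fin l} {β : Fin l → ℤ} {r : ℕ} (h : chkD D l m j β r) :
    Dat M.toCoxeterSystem hp.isCartan j m β := by
  obtain ⟨h1, h2, h3, h4, h5, h6⟩ := h
  refine ⟨h1, ?_, fun i => h4 i, h5, ?_⟩
  · rw [← (funext h3 : vec D l r = β)]
    exact isRoot_vec hp _ h2
  · intro a ha h0 hm i hi
    obtain ⟨r', hr', rfl⟩ := (isRoot_iff hp M.toCoxeterSystem a).1 ha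
    exact h6 ⟨r', hr'⟩ (fun i => h0 i) hm i hi

/-- `hstab` from `Cent` -/
theorem hstab_of_cent {m : ℕ} {f : Fin l → ℤ} {P : Fin l → Fin l → ℤ} {j : Fin l} {β : Fin l → ℤ}
    (hC : Cent hp m f P) (hf : ∀ i, f i = if i = j then 1 else 0) (hPj : ∀ i, P j i = β i)
    (hPi : ∀ i, i ≠ j → ∀ k, P i k = if k = i then 1 else 0) (v : M.Group)
    (hv : ∀ x, (m : ℤ) ∣ rep M.toCoxeterSystem hp.isCartan v x j - x j)
    (hvP : ∀ b ∈ Pi j β, rep M.toCoxeterSystem hp.isCartan v b ∈ Pi j β) : v = 1 := by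
  have hfn : ∀ x, fn f x = x j := fun x => by
    unfold fn
    rw [Finset.sum_eq_single j]
    · rw [hf, if_pos rfl, one_mul]
    · intro i _ hi
      rw [hf, if_neg hi, zero_mul]
    · intro hj
      exact absurd (Finset.mem_univ j) hj
  have hPj' : P j = β := funext hPj
  have hPi' : ∀ i, i ≠ j → P i = sr i := fun i hi => by
    funext k
    rw [hPi i hi k]
    by_cases hk : k = i
    · rw [if_pos hk, hk, sr_self]
    · rw [if_neg hk, sr_ne hk]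
  have hmem : ∀ b, b ∈ Pi j β ↔ ∃ i, P i = b := by
    intro b
    constructor
    · rintro (rfl | ⟨i, hi, rfl⟩)
      · exact ⟨j, hPj'⟩
      · exact ⟨i, hPi' i hi⟩
    · rintro ⟨i, rfl⟩
      by_cases hi : i = j
      · subst hi
        exact Or.inl hPj'
      · exact Or.inr ⟨i, hi, hPi' i hi⟩
  refine hC v (fun x => ?_) (fun i => ?_)
  · rw [hfn, hfn]
    exact hv x
  · obtain ⟨k, hk⟩ := (hmem _).1 (hvP _ ((hmem _).2 ⟨i, rfl⟩))
    exact ⟨k, hk.symm⟩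

end

/-! ### the instances -/

open Cfsg.Agent.H720.RowsNeg Cfsg.Agent.H130.WeylTab

theorem neg_G2 : ∃ w, ∀ x, rep (CoxeterMatrix.G₂).toCoxeterSystem isType_G2.isCartan w x = -x :=
  exists_neg lists_G2 _ _ [0, 1] 3 (by decide +kernel)

theorem neg_F4 : ∃ w, ∀ x, rep (CoxeterMatrix.F₄).toCoxeterSystem isType_F4.isCartan w x = -x :=
  exists_neg lists_F4 _ _ [0, 1, 2, 3] 6 (by decide +kernel)

theorem neg_E7 : ∃ w, ∀ x, rep (CoxeterMatrix.E₇).toCoxeterSystem isType_E7.isCartan w x = -x :=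
  exists_neg lists_E7 _ _ [0, 1, 2, 3, 4, 5, 6] 9 (by decide +kernel)

theorem neg_E8 : ∃ w, ∀ x, rep (CoxeterMatrix.E₈).toCoxeterSystem isType_E8.isCartan w x = -x :=
  exists_neg lists_E8 _ _ [0, 1, 2, 3, 4, 5, 6, 7] 15 (by decide +kernel)

/-- the highest simple root -/
def b_G2_3 : Fin 2 → ℤ := ![3, 1]

theorem dat_G2_3 : Dat (CoxeterMatrix.G₂).toCoxeterSystem isType_G2.isCartan 0 3 b_G2_3 :=
  dat_of_chk isType_G2 (r := 10) (by decide +kernel)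

theorem w_G2_3 : ∃ w, (∀ x, ((3 : ℕ) : ℤ) ∣ rep (CoxeterMatrix.G₂).toCoxeterSystem isType_G2.isCartan w x 0 + x 0) ∧
    ∀ b ∈ Pi 0 b_G2_3, rep (CoxeterMatrix.G₂).toCoxeterSystem isType_G2.isCartan w b ∈ Pi 0 b_G2_3 := by
  have := finite_W isType_G2 (CoxeterMatrix.G₂).toCoxeterSystem
  obtain ⟨w, hw⟩ := neg_G2
  exact exists_w dat_G2_3 hw

theorem hstab_G2_3 (v : (CoxeterMatrix.G₂).Group)
    (hv : ∀ x, ((3 : ℕ) : ℤ) ∣ rep (CoxeterMatrix.G₂).toCoxeterSystem isType_G2.isCartan v x 0 - x 0)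
    (hvP : ∀ b ∈ Pi 0 b_G2_3, rep (CoxeterMatrix.G₂).toCoxeterSystem isType_G2.isCartan v b ∈ Pi 0 b_G2_3) : v = 1 :=
  hstab_of_cent isType_G2 cent_G2_3 (by decide +kernel) (by decide +kernel) (by decide +kernel) v hv hvP

/-- the highest simple root -/
def b_F4_3 : Fin 4 → ℤ := ![2, 4, 3, 1]

theorem dat_F4_3 : Dat (CoxeterMatrix.F₄).toCoxeterSystem isType_F4.isCartan 2 3 b_F4_3 :=
  dat_of_chk isType_F4 (r := 46) (by decide +kernel)

theorem w_F4_3 : ∃ w, (∀ x, ((3 : ℕ) : ℤ) ∣ rep (CoxeterMatrix.F₄).toCoxeterSystem isType_F4.isCartan w x 2 + x 2) ∧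
    ∀ b ∈ Pi 2 b_F4_3, rep (CoxeterMatrix.F₄).toCoxeterSystem isType_F4.isCartan w b ∈ Pi 2 b_F4_3 := by
  have := finite_W isType_F4 (CoxeterMatrix.F₄).toCoxeterSystem
  obtain ⟨w, hw⟩ := neg_F4
  exact exists_w dat_F4_3 hw

theorem hstab_F4_3 (v : (CoxeterMatrix.F₄).Group)
    (hv : ∀ x, ((3 : ℕ) : ℤ) ∣ rep (CoxeterMatrix.F₄).toCoxeterSystem isType_F4.isCartan v x 2 - x 2)
    (hvP : ∀ b ∈ Pi 2 b_F4_3, rep (CoxeterMatrix.F₄).toCoxeterSystem isType_F4.isCartan v b ∈ Pi 2 b_F4_3) : v = 1 :=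
  hstab_of_cent isType_F4 cent_F4_3 (by decide +kernel) (by decide +kernel) (by decide +kernel) v hv hvP

/-- the highest simple root -/
def b_F4_4 : Fin 4 → ℤ := ![2, 4, 2, 1]

theorem dat_F4_4 : Dat (CoxeterMatrix.F₄).toCoxeterSystem isType_F4.isCartan 1 4 b_F4_4 :=
  dat_of_chk isType_F4 (r := 45) (by decide +kernel)

theorem w_F4_4 : ∃ w, (∀ x, ((4 : ℕ) : ℤ) ∣ rep (CoxeterMatrix.F₄).toCoxeterSystem isType_F4.isCartan w x 1 + x 1) ∧
    ∀ b ∈ Pi 1 b_F4_4, rep (CoxeterMatrix.F₄).toCoxeterSystem isType_F4.isCartan w b ∈ Pi 1 b_F4_4 := by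
  have := finite_W isType_F4 (CoxeterMatrix.F₄).toCoxeterSystem
  obtain ⟨w, hw⟩ := neg_F4
  exact exists_w dat_F4_4 hw

theorem hstab_F4_4 (v : (CoxeterMatrix.F₄).Group)
    (hv : ∀ x, ((4 : ℕ) : ℤ) ∣ rep (CoxeterMatrix.F₄).toCoxeterSystem isType_F4.isCartan v x 1 - x 1)
    (hvP : ∀ b ∈ Pi 1 b_F4_4, rep (CoxeterMatrix.F₄).toCoxeterSystem isType_F4.isCartan v b ∈ Pi 1 b_F4_4) : v = 1 :=
  hstab_of_cent isType_F4 cent_F4_4 (by decide +kernel) (by decide +kernel) (by decide +kernel) v hv hvP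

/-- the highest simple root -/
def b_E7_3 : Fin 7 → ℤ := ![1, 2, 3, 4, 3, 2, 1]

theorem dat_E7_3 : Dat (CoxeterMatrix.E₇).toCoxeterSystem isType_E7.isCartan 2 3 b_E7_3 :=
  dat_of_chk isType_E7 (r := 124) (by decide +kernel)

theorem w_E7_3 : ∃ w, (∀ x, ((3 : ℕ) : ℤ) ∣ rep (CoxeterMatrix.E₇).toCoxeterSystem isType_E7.isCartan w x 2 + x 2) ∧
    ∀ b ∈ Pi 2 b_E7_3, rep (CoxeterMatrix.E₇).toCoxeterSystem isType_E7.isCartan w b ∈ Pi 2 b_E7_3 := by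
  have := finite_W isType_E7 (CoxeterMatrix.E₇).toCoxeterSystem
  obtain ⟨w, hw⟩ := neg_E7
  exact exists_w dat_E7_3 hw

theorem hstab_E7_3 (v : (CoxeterMatrix.E₇).Group)
    (hv : ∀ x, ((3 : ℕ) : ℤ) ∣ rep (CoxeterMatrix.E₇).toCoxeterSystem isType_E7.isCartan v x 2 - x 2)
    (hvP : ∀ b ∈ Pi 2 b_E7_3, rep (CoxeterMatrix.E₇).toCoxeterSystem isType_E7.isCartan v b ∈ Pi 2 b_E7_3) : v = 1 :=
  hstab_of_cent isType_E7 cent_E7_3 (by decide +kernel) (by decide +kernel) (by decide +kernel) v hv hvP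

/-- the highest simple root -/
def b_E7_4 : Fin 7 → ℤ := ![1, 2, 2, 4, 3, 2, 1]

theorem dat_E7_4 : Dat (CoxeterMatrix.E₇).toCoxeterSystem isType_E7.isCartan 3 4 b_E7_4 :=
  dat_of_chk isType_E7 (r := 123) (by decide +kernel)

theorem w_E7_4 : ∃ w, (∀ x, ((4 : ℕ) : ℤ) ∣ rep (CoxeterMatrix.E₇).toCoxeterSystem isType_E7.isCartan w x 3 + x 3) ∧
    ∀ b ∈ Pi 3 b_E7_4, rep (CoxeterMatrix.E₇).toCoxeterSystem isType_E7.isCartan w b ∈ Pi 3 b_E7_4 := by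
  have := finite_W isType_E7 (CoxeterMatrix.E₇).toCoxeterSystem
  obtain ⟨w, hw⟩ := neg_E7
  exact exists_w dat_E7_4 hw

/-- the highest simple root -/
def b_E8_3 : Fin 8 → ℤ := ![1, 3, 3, 5, 4, 3, 2, 1]

theorem dat_E8_3 : Dat (CoxeterMatrix.E₈).toCoxeterSystem isType_E8.isCartan 1 3 b_E8_3 :=
  dat_of_chk isType_E8 (r := 225) (by decide +kernel)

theorem w_E8_3 : ∃ w, (∀ x, ((3 : ℕ) : ℤ) ∣ rep (CoxeterMatrix.E₈).toCoxeterSystem isType_E8.isCartan w x 1 + x 1) ∧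
    ∀ b ∈ Pi 1 b_E8_3, rep (CoxeterMatrix.E₈).toCoxeterSystem isType_E8.isCartan w b ∈ Pi 1 b_E8_3 := by
  have := finite_W isType_E8 (CoxeterMatrix.E₈).toCoxeterSystem
  obtain ⟨w, hw⟩ := neg_E8
  exact exists_w dat_E8_3 hw

theorem hstab_E8_3 (v : (CoxeterMatrix.E₈).Group)
    (hv : ∀ x, ((3 : ℕ) : ℤ) ∣ rep (CoxeterMatrix.E₈).toCoxeterSystem isType_E8.isCartan v x 1 - x 1)
    (hvP : ∀ b ∈ Pi 1 b_E8_3, rep (CoxeterMatrix.E₈).toCoxeterSystem isType_E8.isCartan v b ∈ Pi 1 b_E8_3) : v = 1 :=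
  hstab_of_cent isType_E8 cent_E8_3 (by decide +kernel) (by decide +kernel) (by decide +kernel) v hv hvP

/-- the highest simple root -/
def b_E8_4 : Fin 8 → ℤ := ![2, 2, 4, 5, 4, 3, 2, 1]

theorem dat_E8_4 : Dat (CoxeterMatrix.E₈).toCoxeterSystem isType_E8.isCartan 2 4 b_E8_4 :=
  dat_of_chk isType_E8 (r := 232) (by decide +kernel)

theorem w_E8_4 : ∃ w, (∀ x, ((4 : ℕ) : ℤ) ∣ rep (CoxeterMatrix.E₈).toCoxeterSystem isType_E8.isCartan w x 2 + x 2) ∧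
    ∀ b ∈ Pi 2 b_E8_4, rep (CoxeterMatrix.E₈).toCoxeterSystem isType_E8.isCartan w b ∈ Pi 2 b_E8_4 := by
  have := finite_W isType_E8 (CoxeterMatrix.E₈).toCoxeterSystem
  obtain ⟨w, hw⟩ := neg_E8
  exact exists_w dat_E8_4 hw

theorem hstab_E8_4 (v : (CoxeterMatrix.E₈).Group)
    (hv : ∀ x, ((4 : ℕ) : ℤ) ∣ rep (CoxeterMatrix.E₈).toCoxeterSystem isType_E8.isCartan v x 2 - x 2)
    (hvP : ∀ b ∈ Pi 2 b_E8_4, rep (CoxeterMatrix.E₈).toCoxeterSystem isType_E8.isCartan v b ∈ Pi 2 b_E8_4) : v = 1 :=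
  hstab_of_cent isType_E8 cent_E8_4 (by decide +kernel) (by decide +kernel) (by decide +kernel) v hv hvP

end Cfsg.Agent.H196.SRX
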